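import Mathlib

/-!
Orders of SL_n, PSL_n, PGL_n over finite fields.
-/

set_option autoImplicit false

namespace Cfsg.Agent.Classical

open Matrix

section general
variable {n : Type*} [Fintype n] [DecidableEq n] {R : Type*} [CommRing R]

/-- The image of `SL` in `GL` is the kernel of the determinant. -/
theorem range_toGL_eq_ker_det :
    (Matrix.SpecialLinearGroup.toGL : Matrix.SpecialLinearGroup n R →* GL n R).range
      = (Matrix.GeneralLinearGroup.det : GL n R →* Rˣ).ker := by
  ext g
  constructor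
  · rintro ⟨a, rfl⟩
    exact Units.ext a.prop
  · intro hg
    refine ⟨⟨g.val, ?_⟩, Units.ext rfl⟩
    exact congrArg Units.val hg

/-- `SL` is isomorphic to the kernel of the determinant on `GL`. -/
noncomputable def slEquivKerDet :
    Matrix.SpecialLinearGroup n R ≃* (Matrix.GeneralLinearGroup.det : GL n R →* Rˣ).ker :=
  (MonoidHom.ofInjective Matrix.SpecialLinearGroup.toGL_injective).trans
    (MulEquiv.subgroupCongr range_toGL_eq_ker_det)

theorem card_gl_eq_units_mul_sl [Nonempty n] :
    Nat.card (GL n R) = Nat.card Rˣ * Nat.card (Matrix.SpecialLinearGroup n R) := by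
  have h := (Matrix.GeneralLinearGroup.det : GL n R →* Rˣ).ker.card_mul_index
  rw [Subgroup.index_ker, MonoidHom.range_eq_top.2 Matrix.GeneralLinearGroup.det_surjective,
    Subgroup.card_top, ← Nat.card_congr slEquivKerDet.toEquiv] at h
  rw [← h, mul_comm]

end general

section field
variable {F : Type*} [Field F] [Fintype F]

theorem natCard_units_field : Nat.card Fˣ = Fintype.card F - 1 := by
  rw [Nat.card_units, Nat.card_eq_fintype_card]

/-- `(q-1) |SL_n(q)| = ∏ (q^n - q^i)`. -/
theorem card_sl_mul (n : ℕ) (hn : 1 ≤ n) :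
    (Fintype.card F - 1) * Nat.card (Matrix.SpecialLinearGroup (Fin n) F) =
      ∏ i : Fin n, (Fintype.card F ^ n - Fintype.card F ^ (i : ℕ)) := by
  have : Nonempty (Fin n) := ⟨⟨0, hn⟩⟩
  rw [← Matrix.card_GL_field, card_gl_eq_units_mul_sl, natCard_units_field]

/-- The order of the centre of `SL_n(q)`. -/
theorem card_center_sl (n : ℕ) (hn : 1 ≤ n) :
    Nat.card (Subgroup.center (Matrix.SpecialLinearGroup (Fin n) F)) =
      Nat.gcd n (Fintype.card F - 1) := by
  have e := Matrix.SpecialLinearGroup.center_equiv_rootsOfUnity' (R := F) (⟨0, hn⟩ : Fin n)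
  rw [Nat.card_congr e.toEquiv, Fintype.card_fin]
  have h2 : rootsOfUnity n F = (powMonoidHom n : Fˣ →* Fˣ).ker := by
    ext x; simp [mem_rootsOfUnity, MonoidHom.mem_ker]
  rw [h2, IsCyclic.card_powMonoidHom_ker, natCard_units_field, Nat.gcd_comm]

omit [Fintype F] in
theorem card_sl_eq_center_mul_psl (n : ℕ) :
    Nat.card (Matrix.SpecialLinearGroup (Fin n) F) =
      Nat.card (Subgroup.center (Matrix.SpecialLinearGroup (Fin n) F)) *
        Nat.card (Matrix.ProjectiveSpecialLinearGroup (Fin n) F) := by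
  rw [mul_comm]
  exact Subgroup.card_eq_card_quotient_mul_card_subgroup _

/-- `gcd(n,q-1) (q-1) |PSL_n(q)| = ∏ (q^n - q^i)`. -/
theorem card_psl_mul (n : ℕ) (hn : 1 ≤ n) :
    Nat.gcd n (Fintype.card F - 1) *
      ((Fintype.card F - 1) * Nat.card (Matrix.ProjectiveSpecialLinearGroup (Fin n) F)) =
      ∏ i : Fin n, (Fintype.card F ^ n - Fintype.card F ^ (i : ℕ)) := by
  rw [← card_sl_mul n hn, card_sl_eq_center_mul_psl, card_center_sl n hn]
  ring

theorem card_center_gl (n : ℕ) (hn : 1 ≤ n) :
    Nat.card (Subgroup.center (GL (Fin n) F)) = Fintype.card F - 1 := by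
  have : Nonempty (Fin n) := ⟨⟨0, hn⟩⟩
  rw [Matrix.GeneralLinearGroup.center_eq_range_scalar]
  have hinj : Function.Injective (Matrix.GeneralLinearGroup.scalar (Fin n) : Fˣ →* GL (Fin n) F) := by
    intro a b h
    have := congrArg (fun g : GL (Fin n) F => g.val ⟨0, hn⟩ ⟨0, hn⟩) h
    simp at this
    exact Units.ext this
  rw [Nat.card_congr (MonoidHom.ofInjective hinj).symm.toEquiv, natCard_units_field]

/-- `|PGL_n(q)| = |SL_n(q)|`. -/
theorem card_pgl_eq_card_sl (n : ℕ) :
    Nat.card (Matrix.ProjGenLinGroup (Fin n) F) =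
      Nat.card (Matrix.SpecialLinearGroup (Fin n) F) := by
  rcases Nat.eq_zero_or_pos n with hn | hn
  · subst hn
    have : Subsingleton (GL (Fin 0) F) := ⟨fun a b => Units.ext (Matrix.ext fun i => i.elim0)⟩
    have : Subsingleton (Matrix.ProjGenLinGroup (Fin 0) F) :=
      Matrix.ProjGenLinGroup.mk_surjective.subsingleton
    rw [Nat.card_of_subsingleton (1 : Matrix.ProjGenLinGroup (Fin 0) F),
      Nat.card_of_subsingleton (1 : Matrix.SpecialLinearGroup (Fin 0) F)]
  · have : Nonempty (Fin n) := ⟨⟨0, hn⟩⟩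
    have h := (Subgroup.center (GL (Fin n) F)).card_eq_card_quotient_mul_card_subgroup
    rw [card_center_gl n hn, card_gl_eq_units_mul_sl, natCard_units_field, mul_comm] at h
    have hq : 0 < Fintype.card F - 1 := by
      have := Fintype.one_lt_card (α := F); omega
    exact (Nat.eq_of_mul_eq_mul_right hq h).symm

end field

end Cfsg.Agent.Classical
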