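import Mathlib

set_option autoImplicit false
set_option linter.unusedSimpArgs false

namespace Cfsg.Agent.Classical

open Matrix

section
variable {ι : Type*} [Fintype ι] [DecidableEq ι] {F : Type*} [Field F]

theorem slWeyl_coe {i j : ι} (hij : i ≠ j) (a : F) (ha : a ≠ 0) :
    (SpecialLinearGroup.transvection hij a * SpecialLinearGroup.transvection hij.symm (-a⁻¹) *
      SpecialLinearGroup.transvection hij a).1 =
    1 + single i j a + single j i (-a⁻¹) + single i i (-1) + single j j (-1) := by
  simp only [Matrix.SpecialLinearGroup.coe_mul, Matrix.SpecialLinearGroup.transvection_coe, mul_add, add_mul, one_mul, mul_one,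
    single_mul_single_same, ne_eq, hij, hij.symm, not_false_iff, single_mul_single_of_ne, zero_mul, add_zero, zero_add]
  ext k l
  simp [single_apply, Matrix.one_apply]
  split_ifs <;> field_simp <;> grind

theorem diag2n_mem_of_transvection {i j : ι} (hij : i ≠ j) (a : F) (ha : a ≠ 0)
    (H : Subgroup (SpecialLinearGroup ι F))
    (hH : ∀ (i j : ι) (h : i ≠ j) (c : F), SpecialLinearGroup.transvection h c ∈ H) :
    SpecialLinearGroup.diag2n hij a ha ∈ H := by
  have key : SpecialLinearGroup.diag2n hij a ha =
    (SpecialLinearGroup.transvection hij a * SpecialLinearGroup.transvection hij.symm (-a⁻¹) *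
      SpecialLinearGroup.transvection hij a) *
    (SpecialLinearGroup.transvection hij (-1) * SpecialLinearGroup.transvection hij.symm (-(-1:F)⁻¹) *
      SpecialLinearGroup.transvection hij (-1)) := by
    apply Subtype.ext
    rw [Matrix.SpecialLinearGroup.coe_mul, slWeyl_coe hij a ha, slWeyl_coe hij (-1) (by simp), SpecialLinearGroup.diag2n_coe]
    simp only [mul_add, add_mul, one_mul, mul_one, single_mul_single_same, ne_eq, hij, hij.symm, not_false_iff, single_mul_single_of_ne, add_zero, zero_add]
    ext k l
    simp [single_apply, Matrix.one_apply, diagonal_apply]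
    split_ifs <;> grind
  rw [key]
  exact H.mul_mem (H.mul_mem (H.mul_mem (hH ..) (hH ..)) (hH ..)) (H.mul_mem (H.mul_mem (hH ..) (hH ..)) (hH ..))

/-- `SL_n` over a field is generated by transvections. -/
theorem sl_subgroup_eq_top_of_transvection_mem (H : Subgroup (SpecialLinearGroup ι F))
    (hH : ∀ (i j : ι) (h : i ≠ j) (c : F), SpecialLinearGroup.transvection h c ∈ H) : H = ⊤ := by
  refine eq_top_iff.2 fun A _ => ?_
  rcases subsingleton_or_nontrivial ι with hs | hn
  · have : A = 1 := Subsingleton.elim _ _
    simp [this]
  · exact SpecialLinearGroup.diagonal_transvection_induction' (fun g => g ∈ H) A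
      (fun i j hij c hc => diag2n_mem_of_transvection hij c hc H hH) hH (fun _ _ => H.mul_mem)

open scoped commutatorElement in
theorem commutator_transvection_transvection {i j k : ι} (hij : i ≠ j) (hik : i ≠ k) (hkj : k ≠ j)
    (a b : F) :
    ⁅SpecialLinearGroup.transvection hik a, SpecialLinearGroup.transvection hkj b⁆ =
      SpecialLinearGroup.transvection hij (a * b) := by
  rw [commutatorElement_def, SpecialLinearGroup.transvection_inv, SpecialLinearGroup.transvection_inv]
  apply Subtype.ext
  simp only [Matrix.SpecialLinearGroup.coe_mul, Matrix.SpecialLinearGroup.transvection_coe, mul_add, add_mul, one_mul, mul_one,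
    single_mul_single_same, ne_eq, hij, hij.symm, hik, hik.symm, hkj, hkj.symm, not_false_iff, single_mul_single_of_ne, zero_mul, mul_zero, single_zero, add_zero, zero_add]
  ext x y
  simp [single_apply, Matrix.one_apply]
  split_ifs <;> grind

/-- `SL_n` is perfect when there are at least three indices. -/
theorem sl_commutator_eq_top (h3 : 3 ≤ Fintype.card ι) :
    commutator (SpecialLinearGroup ι F) = ⊤ := by
  refine sl_subgroup_eq_top_of_transvection_mem _ fun i j hij c => ?_
  obtain ⟨k, hk⟩ : ∃ k : ι, k ∉ ({i, j} : Finset ι) := by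
    by_contra h
    push Not at h
    have h1 := Finset.card_le_card (fun x (_ : x ∈ (Finset.univ : Finset ι)) => h x)
    have h2 := Finset.card_le_two (a := i) (b := j)
    rw [Finset.card_univ] at h1
    omega
  simp only [Finset.mem_insert, Finset.mem_singleton, not_or] at hk
  rw [← mul_one c, ← commutator_transvection_transvection hij (Ne.symm hk.1) hk.2]
  exact Subgroup.commutator_mem_commutator (Subgroup.mem_top _) (Subgroup.mem_top _)

theorem transvection_smul_vec {i j : ι} (hij : i ≠ j) (b : F) (w : ι → F) :
    SpecialLinearGroup.transvection hij b • w = w + (b * w j) • Pi.single i 1 := by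
  show (SpecialLinearGroup.transvection hij b).1 *ᵥ w = _
  ext k
  simp [SpecialLinearGroup.transvection_coe, add_mulVec, single_mulVec_eq, Pi.single_apply]

open scoped LinearAlgebra.Projectivization

theorem psl_iSup_iwasawaT_eq_top :
    iSup (PSL.iwasawaT (F := F) (ι := ι)) = ⊤ := by
  have h1 : (⨆ p : ℙ F (ι → F), SpecialLinearGroup.lineStab p.submodule) = ⊤ := by
    refine sl_subgroup_eq_top_of_transvection_mem _ fun i j hij c => ?_
    apply Subgroup.mem_iSup_of_mem (Projectivization.mk F (Pi.single i 1 : ι → F) (by simp))
    rw [Projectivization.submodule_mk]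
    intro w
    rw [transvection_smul_vec hij]
    exact Submodule.mem_span_singleton.2 ⟨c * w j, by simp⟩
  calc iSup (PSL.iwasawaT (F := F) (ι := ι))
      = Subgroup.map (QuotientGroup.mk' _) (⨆ p : ℙ F (ι → F), SpecialLinearGroup.lineStab p.submodule) := by
        rw [Subgroup.map_iSup]
    _ = ⊤ := by rw [h1]; exact Subgroup.map_top_of_surjective _ (QuotientGroup.mk'_surjective _)

open MulAction in
noncomputable def pslIwasawa :
    IwasawaStructure (ProjectiveSpecialLinearGroup ι F) (ℙ F (ι → F)) where
  T := PSL.iwasawaT
  is_comm p := by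
    have hSL : IsMulCommutative (SpecialLinearGroup.lineStab p.submodule) := by
      rw [← Projectivization.mk_rep p, Projectivization.submodule_mk]
      exact SpecialLinearGroup.lineStab_isMulCommutative_of_span p.rep p.rep_nonzero
    exact Subgroup.map_isMulCommutative _ _
  is_conj g p := by
    obtain ⟨g_SL, rfl⟩ := QuotientGroup.mk_surjective g
    rw [Matrix.ProjectiveSpecialLinearGroup.smul_proj_mk]
    change Subgroup.map _ _ = _
    rw [PSL.smul_submodule, Matrix.SpecialLinearGroup.lineStab_smul, PSL.iwasawaT_map_conj]
  is_generator := psl_iSup_iwasawaT_eq_top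

theorem psl_isSimpleGroup (h3 : 3 ≤ Fintype.card ι) :
    IsSimpleGroup (ProjectiveSpecialLinearGroup ι F) := by
  have : Nontrivial ι := Fintype.one_lt_card_iff_nontrivial.1 (by omega)
  have hp : Group.IsPerfect (SpecialLinearGroup ι F) := ⟨sl_commutator_eq_top h3⟩
  have hp2 : Group.IsPerfect (ProjectiveSpecialLinearGroup ι F) := inferInstance
  exact MulAction.IwasawaStructure.isSimpleGroup hp2.commutator_eq_top pslIwasawa inferInstance

open scoped commutatorElement in
theorem transvection_mem_gl_commutator {i j : ι} (hij : i ≠ j) (c : F) {a : F} (ha : a ≠ 0) (ha1 : a ≠ 1) :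
    (SpecialLinearGroup.transvection hij c).toGL ∈ commutator (GL ι F) := by
  let D : GL ι F := GeneralLinearGroup.mkOfDetNeZero (diagonal fun k => if k = i then a else 1)
    (by rw [det_diagonal, Finset.prod_ite_eq' Finset.univ i (fun _ => a)]; simp [ha])
  have key : D * (SpecialLinearGroup.transvection hij (c / (a - 1))).toGL =
      (SpecialLinearGroup.transvection hij c).toGL *
        ((SpecialLinearGroup.transvection hij (c / (a - 1))).toGL * D) := by
    apply Units.ext
    simp only [Units.val_mul, Matrix.SpecialLinearGroup.coe_GL_coe_matrix, SpecialLinearGroup.transvection_coe, D,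
      GeneralLinearGroup.mkOfDetNeZero]
    have : a - 1 ≠ 0 := sub_ne_zero.2 ha1
    have hD : diagonal (fun k => if k = i then a else 1) = 1 + single i i (a - 1) := by
      ext x y
      simp [single_apply, Matrix.one_apply, diagonal_apply]
      split_ifs <;> grind
    change (diagonal fun k => if k = i then a else 1) * _ = _ * (_ * (diagonal fun k => if k = i then a else 1))
    rw [hD]
    simp only [mul_add, add_mul, one_mul, mul_one, single_mul_single_same, ne_eq, hij, hij.symm,
      not_false_iff, single_mul_single_of_ne, mul_zero, add_zero, zero_add]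
    ext x y
    simp [single_apply, Matrix.one_apply]
    split_ifs <;> grind
  have : (SpecialLinearGroup.transvection hij c).toGL =
      ⁅D, (SpecialLinearGroup.transvection hij (c / (a - 1))).toGL⁆ := by
    rw [commutatorElement_def, key]; group
  rw [this]
  exact Subgroup.commutator_mem_commutator (Subgroup.mem_top _) (Subgroup.mem_top _)

theorem gl_commutator_le_ker_det :
    commutator (GL ι F) ≤ (GeneralLinearGroup.det : GL ι F →* Fˣ).ker :=
  Abelianization.commutator_subset_ker _

theorem toGL_mem_gl_commutator_of_commutator_eq_top (h : commutator (SpecialLinearGroup ι F) = ⊤)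
    (g : SpecialLinearGroup ι F) : g.toGL ∈ commutator (GL ι F) := by
  have h1 : g.toGL ∈ (commutator (SpecialLinearGroup ι F)).map SpecialLinearGroup.toGL :=
    Subgroup.mem_map.2 ⟨g, by simp [h], rfl⟩
  rw [commutator_def, Subgroup.map_commutator] at h1
  exact Subgroup.commutator_mono le_top le_top h1

theorem gl_commutator_eq_ker_det (h : Fintype.card ι = 2 → ∃ a : F, a ≠ 0 ∧ a ≠ 1) :
    commutator (GL ι F) = (GeneralLinearGroup.det : GL ι F →* Fˣ).ker := by
  refine le_antisymm gl_commutator_le_ker_det fun g hg => ?_
  obtain ⟨s, rfl⟩ : ∃ s : SpecialLinearGroup ι F, s.toGL = g :=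
    ⟨⟨g.val, congrArg Units.val hg⟩, Units.ext rfl⟩
  by_cases h3 : 3 ≤ Fintype.card ι
  · exact toGL_mem_gl_commutator_of_commutator_eq_top (sl_commutator_eq_top h3) s
  by_cases h2 : Fintype.card ι = 2
  · obtain ⟨a, ha, ha1⟩ := h h2
    have := sl_subgroup_eq_top_of_transvection_mem ((commutator (GL ι F)).comap SpecialLinearGroup.toGL)
      (fun i j hij c => transvection_mem_gl_commutator hij c ha ha1)
    exact (this.symm ▸ Subgroup.mem_top s : s ∈ (commutator (GL ι F)).comap SpecialLinearGroup.toGL)
  · have : Subsingleton ι := Fintype.card_le_one_iff_subsingleton.1 (by omega)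
    rw [Subsingleton.elim s 1, map_one]
    exact one_mem _

end

end Cfsg.Agent.Classical
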